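import Cfsg.Agent.H172.DG.Mono

/-!
# TEAM GEN, S4180, row `PSL_n(q)` of `Cos2`: the lifts with the graph automorphism (helper172)
-/

set_option autoImplicit false

namespace Cfsg.Agent.H172.DG

open Matrix Cfsg.Agent.H891.Gen Cfsg.Agent.H99.GenSL
open scoped Fin.NatCast Fin.CommRing commutatorElement

/-- steps of length two suffice in a cycle of odd length -/
theorem iter_two {k : ℕ} (hk : Even k) (P : Fin (k + 1) → Prop) (h : ∀ i, P i → P (i + 1 + 1)) :
    ∀ i, P i → P (i + 1) := by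
  intro i hi
  have h1 : ∀ m : ℕ, P (i + ((2 * m : ℕ) : Fin (k + 1))) := by
    intro m
    induction m with
    | zero => simpa using hi
    | succ m ih =>
      have h2 := h _ ih
      have h3 : i + ((2 * m : ℕ) : Fin (k + 1)) + 1 + 1 = i + ((2 * (m + 1) : ℕ) : Fin (k + 1)) := by
        rw [show 2 * (m + 1) = 2 * m + 1 + 1 by ring, Nat.cast_succ, Nat.cast_succ, ← add_assoc, ← add_assoc]
      rwa [h3] at h2
  obtain ⟨l, hl⟩ := hk
  have h2 := h1 (l + 1)
  have h3 : ((2 * (l + 1) : ℕ) : Fin (k + 1)) = 1 := by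
    rw [show 2 * (l + 1) = (k + 1) + 1 by omega, Nat.cast_add, Nat.cast_one]
    have h4 : ((k + 1 : ℕ) : Fin (k + 1)) = 0 := by
      apply Fin.ext
      rw [Fin.val_natCast, Nat.mod_self]
      rfl
    rw [h4, zero_add]
  rwa [h3] at h2

/-- all of a cycle -/
theorem iter_all {k : ℕ} (P : Fin (k + 1) → Prop) (h : ∀ i, P i → P (i + 1)) (h0 : P 0) : ∀ i, P i := by
  have h1 : ∀ m : ℕ, P ((m : ℕ) : Fin (k + 1)) := by
    intro m
    induction m with
    | zero => simpa using h0
    | succ m ih =>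
      rw [Nat.cast_succ]
      exact h _ ih
  intro i
  have h2 := h1 (i : ℕ)
  rwa [Fin.cast_val_eq_self] at h2

section Step

variable {ι F : Type*} [Fintype ι] [DecidableEq ι] [Field F] {Γ : Type*} [Group Γ]
  {j : GL ι F →* Γ} {σ : F ≃+* F} {f : Γ}

theorem conj_w (hf : ∀ A, f * j A * f⁻¹ = j (itg (GeneralLinearGroup.map (σ : F →+* F) A))) (M A : GL ι F) :
    (j M * f) * j A * (j M * f)⁻¹ = j (M * itg (GeneralLinearGroup.map (σ : F →+* F) A) * M⁻¹) := by
  rw [map_mul, map_mul, map_inv, ← hf]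
  group

/-- `w` maps `X_{ik}` onto `X_{τ k, τ i}` -/
theorem step (hf : ∀ A, f * j A * f⁻¹ = j (itg (GeneralLinearGroup.map (σ : F →+* F) A)))
    {M : GL ι F} {τ : Equiv.Perm ι} {m : ι → Fˣ} (hM : Mono M τ m) (M₀ : Subgroup Γ) (hw : j M * f ∈ M₀)
    {i k i' k' : ι} (h : i ≠ k) (h' : k' ≠ i') (hi : τ i = i') (hk : τ k = k')
    (hX : ∀ s : F, j (tv h s) ∈ M₀) : ∀ s : F, j (tv h' s) ∈ M₀ := by
  subst hi
  subst hk
  intro s
  have h2 := hX (σ.symm (-(((m k)⁻¹ : Fˣ) * s * (m i : F))))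
  have h3 := M₀.mul_mem (M₀.mul_mem hw h2) (M₀.inv_mem hw)
  rw [conj_w hf, map_tv, itg_tv, conj_tv hM] at h3
  have e1 := (m i).ne_zero
  have e2 := (m k).ne_zero
  have h4 : (m k : F) * (-((σ : F →+* F) (σ.symm (-(((m k)⁻¹ : Fˣ) * s * (m i : F)))))) * ((m i)⁻¹ : Fˣ) = s := by
    show (m k : F) * (-(σ (σ.symm _))) * _ = s
    rw [RingEquiv.apply_symm_apply, neg_neg, Units.val_inv_eq_inv_val, Units.val_inv_eq_inv_val]
    field_simp
  rw [h4] at h3
  exact h3

end Step

section Gen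

variable {F : Type*} [Field F] {Γ : Type*} [Group Γ] {σ : F ≃+* F} {f : Γ}

/-- generation in odd dimension -/
theorem range_le_odd {n : ℕ} (hn : 1 ≤ n) (he : Even n) {j : GL (Fin (n + 1)) F →* Γ}
    (hf : ∀ A, f * j A * f⁻¹ = j (itg (GeneralLinearGroup.map (σ : F →+* F) A)))
    {M : GL (Fin (n + 1)) F} {m : Fin (n + 1) → Fˣ} (hM : Mono M (cyc n) m) (M₀ : Subgroup Γ)
    (hX : ∀ s : F, j (tv (ne_succ hn 0) s) ∈ M₀) (hw : j M * f ∈ M₀) :
    (j.comp SpecialLinearGroup.toGL).range ≤ M₀ := by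
  have h1 : M₀.comap (j.comp SpecialLinearGroup.toGL) = ⊤ := by
    refine eq_top_of_step hn _ hX ?_
    refine iter_two he (fun i => ∀ a : F, Matrix.SpecialLinearGroup.transvection (ne_succ hn i) a ∈
      M₀.comap (j.comp SpecialLinearGroup.toGL)) ?_
    intro i hi
    have h2 : ∀ s : F, j (tv (ne_succ hn i) s) ∈ M₀ := hi
    have h3 := step hf hM M₀ hw (ne_succ hn i) (ne_succ hn (i + 1)).symm rfl rfl h2
    have h4 := step hf hM M₀ hw _ (ne_succ hn (i + 1 + 1)) rfl rfl h3
    exact h4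
  rintro _ ⟨A, rfl⟩
  have h2 : A ∈ M₀.comap (j.comp SpecialLinearGroup.toGL) := by rw [h1]; trivial
  exact h2

/-- the cycle of length `k + 1` on the nonzero indices -/
def cyc' (k : ℕ) : Equiv.Perm (Fin (k + 1 + 1)) := Equiv.Perm.decomposeFin.symm (0, cyc k)

theorem cyc'_zero (k : ℕ) : cyc' k 0 = 0 := by
  unfold cyc'
  rw [Equiv.Perm.decomposeFin_symm_apply_zero]

theorem cyc'_succ (k : ℕ) (i : Fin (k + 1)) : cyc' k i.succ = (i + 1).succ := by
  unfold cyc'
  rw [Equiv.Perm.decomposeFin_symm_apply_succ, Equiv.swap_self, Equiv.refl_apply]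
  rfl

/-- generation in even dimension -/
theorem range_le_even {k : ℕ} (he : Even k) {j : GL (Fin (k + 1 + 1)) F →* Γ}
    (hf : ∀ A, f * j A * f⁻¹ = j (itg (GeneralLinearGroup.map (σ : F →+* F) A)))
    {M : GL (Fin (k + 1 + 1)) F} {m : Fin (k + 1 + 1) → Fˣ} (hM : Mono M (cyc' k) m) (M₀ : Subgroup Γ)
    (hX : ∀ s : F, j (tv (Fin.succ_ne_zero (0 : Fin (k + 1))) s) ∈ M₀) (hw : j M * f ∈ M₀) :
    (j.comp SpecialLinearGroup.toGL).range ≤ M₀ := by
  have hPQ : ∀ i : Fin (k + 1), (∀ s : F, j (tv (Fin.succ_ne_zero i) s) ∈ M₀) →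
      ∀ s : F, j (tv (Fin.succ_ne_zero (i + 1)).symm s) ∈ M₀ := fun i hi =>
    step hf hM M₀ hw _ _ (cyc'_succ k i) (cyc'_zero k) hi
  have hQP : ∀ i : Fin (k + 1), (∀ s : F, j (tv (Fin.succ_ne_zero i).symm s) ∈ M₀) →
      ∀ s : F, j (tv (Fin.succ_ne_zero (i + 1)) s) ∈ M₀ := fun i hi =>
    step hf hM M₀ hw _ _ (cyc'_zero k) (cyc'_succ k i) hi
  have hP : ∀ i : Fin (k + 1), ∀ s : F, j (tv (Fin.succ_ne_zero i) s) ∈ M₀ := by
    refine iter_all _ (iter_two he _ ?_) hX
    intro i hi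
    exact hQP _ (hPQ i hi)
  have hQ : ∀ i : Fin (k + 1), ∀ s : F, j (tv (Fin.succ_ne_zero i).symm s) ∈ M₀ := by
    intro i
    have h1 := hPQ (i - 1) (hP _)
    rwa [sub_add_cancel] at h1
  have hall : ∀ (a b : Fin (k + 1 + 1)) (h : a ≠ b) (s : F), j (tv h s) ∈ M₀ := by
    intro a b h s
    induction a using Fin.cases with
    | zero =>
      induction b using Fin.cases with
      | zero => exact absurd rfl h
      | succ b => exact hQ b s
    | succ a =>
      induction b using Fin.cases with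
      | zero => exact hP a s
      | succ b =>
        have h6 := Cfsg.Agent.LieClassical.SLGen.commutator_transvection h (Fin.succ_ne_zero a)
          (Fin.succ_ne_zero b).symm s (1 : F)
        rw [mul_one] at h6
        have h7 : j (tv h s) = ⁅j (tv (Fin.succ_ne_zero a) s), j (tv (Fin.succ_ne_zero b).symm 1)⁆ := by
          show j (SpecialLinearGroup.toGL (SpecialLinearGroup.transvection h s)) = _
          rw [← h6, map_commutatorElement, map_commutatorElement]
          rfl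
        rw [h7, commutatorElement_def]
        have h4 := hP a s
        have h5 := hQ b 1
        exact M₀.mul_mem (M₀.mul_mem (M₀.mul_mem h4 h5) (M₀.inv_mem h4)) (M₀.inv_mem h5)
  have h1 : M₀.comap (j.comp SpecialLinearGroup.toGL) = ⊤ := by
    rw [eq_top_iff, ← Cfsg.Agent.LieClassical.SLGen.closure_transvections, Subgroup.closure_le]
    rintro _ ⟨a, b, hab, c, rfl⟩
    exact hall a b hab c
  rintro _ ⟨A, rfl⟩
  have h2 : A ∈ M₀.comap (j.comp SpecialLinearGroup.toGL) := by rw [h1]; trivial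
  exact h2

end Gen

/-! ### the lifts -/

section Lift

variable {F : Type*} [Field F] {Γ : Type*} [Group Γ] {σ : F ≃+* F} {f : Γ}

/-- diagonal entries with prescribed product in even dimension -/
theorem exists_diag_even [Fintype F] {k : ℕ} (hk : 2 ≤ k) (hF : 3 ≤ Fintype.card F) (δ : Fˣ) :
    ∃ (c : Fin (k + 1 + 1) → Fˣ) (z : Fˣ), (∀ u : Fˣ, u ∈ Subgroup.zpowers z) ∧ ∏ i, c i = δ ∧
      (c 1 = c 0 * z) ∧ c 1 ≠ c 0 ∧ c (Fin.last (k + 1)) ≠ c 0 := by
  classical
  obtain ⟨z, hz⟩ := exists_gen (F := F)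
  have ho := orderOf_gen hz
  have hz1 : z ≠ 1 := by
    intro e
    rw [← orderOf_eq_one_iff] at e
    omega
  obtain ⟨k, rfl⟩ : ∃ m, k = m + 2 := ⟨k - 2, by omega⟩
  have h01 : (0 : Fin (k + 2 + 1 + 1)) ≠ 1 := Fin.zero_ne_one
  have h0l : (0 : Fin (k + 2 + 1 + 1)) ≠ Fin.last _ := by
    intro e
    have := congrArg Fin.val e
    simp at this
  have h02 : (0 : Fin (k + 2 + 1 + 1)) ≠ (⟨2, by omega⟩ : Fin (k + 2 + 1 + 1)) := by
    intro e
    have := congrArg Fin.val e
    simp at this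
  have h12 : (1 : Fin (k + 2 + 1 + 1)) ≠ (⟨2, by omega⟩ : Fin (k + 2 + 1 + 1)) := by
    intro e
    have := congrArg Fin.val e
    simp at this
  have h1l : (1 : Fin (k + 2 + 1 + 1)) ≠ Fin.last _ := by
    intro e
    have := congrArg Fin.val e
    simp at this
  have h2l : (⟨2, by omega⟩ : Fin (k + 2 + 1 + 1)) ≠ Fin.last _ := by
    intro e
    have := congrArg Fin.val e
    simp at this
  refine ⟨Pi.mulSingle 1 z * Pi.mulSingle (Fin.last _) z *
    Pi.mulSingle (⟨2, by omega⟩ : Fin (k + 2 + 1 + 1)) (δ * (z * z)⁻¹), z, hz, ?_, ?_, ?_, ?_⟩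
  · simp only [Pi.mul_apply, Finset.prod_mul_distrib, Finset.prod_pi_mulSingle', Finset.mem_univ, if_true]
    rw [mul_comm, inv_mul_cancel_right]
  · simp only [Pi.mul_apply, Pi.mulSingle_eq_same, Pi.mulSingle_eq_of_ne h01, Pi.mulSingle_eq_of_ne h0l,
      Pi.mulSingle_eq_of_ne h02, Pi.mulSingle_eq_of_ne h1l, Pi.mulSingle_eq_of_ne h12, mul_one, one_mul]
  · simp only [Pi.mul_apply, Pi.mulSingle_eq_same, Pi.mulSingle_eq_of_ne h01, Pi.mulSingle_eq_of_ne h0l,
      Pi.mulSingle_eq_of_ne h02, Pi.mulSingle_eq_of_ne h1l, Pi.mulSingle_eq_of_ne h12, mul_one]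
    exact hz1
  · simp only [Pi.mul_apply, Pi.mulSingle_eq_same, Pi.mulSingle_eq_of_ne h01, Pi.mulSingle_eq_of_ne h0l,
      Pi.mulSingle_eq_of_ne h02, Pi.mulSingle_eq_of_ne h1l.symm, Pi.mulSingle_eq_of_ne h2l.symm, mul_one, one_mul]
    exact hz1

theorem det_tv {ι : Type*} [Fintype ι] [DecidableEq ι] {a b : ι} (h : a ≠ b) (s : F) :
    GeneralLinearGroup.det (tv h s) = 1 := by
  apply Units.ext
  exact Matrix.det_transvection_of_ne _ _ h s

theorem two_elements [Fintype F] (hF : Fintype.card F < 3) (s : F) : s = 0 ∨ s = 1 := by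
  by_contra hcon
  push Not at hcon
  classical
  have h3 : ({0, 1, s} : Finset F).card ≤ Fintype.card F := Finset.card_le_univ _
  rw [Finset.card_insert_of_notMem, Finset.card_insert_of_notMem, Finset.card_singleton] at h3
  · omega
  · rw [Finset.mem_singleton]
    exact fun e => hcon.2 e.symm
  · simp only [Finset.mem_insert, Finset.mem_singleton, not_or]
    exact ⟨zero_ne_one, fun e => hcon.1 e.symm⟩

/-- the general form of the lift (case `x ∈ PGL`, `y` a graph automorphism), given a root group, a permutation and the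
diagonal element -/
theorem lift_graph_of [Fintype F] {n : ℕ} {j : GL (Fin (n + 1)) F →* Γ}
    (hf : ∀ A, f * j A * f⁻¹ = j (itg (GeneralLinearGroup.map (σ : F →+* F) A)))
    {a b : Fin (n + 1)} (hab : a ≠ b) (hj : ∀ s : F, j (tv hab s) = 1 → s = 0) (τ : Equiv.Perm (Fin (n + 1)))
    (hgen : ∀ (M : GL (Fin (n + 1)) F) (m : Fin (n + 1) → Fˣ), Mono M τ m → ∀ M₀ : Subgroup Γ,
      (∀ s : F, j (tv hab s) ∈ M₀) → j M * f ∈ M₀ → (j.comp SpecialLinearGroup.toGL).range ≤ M₀)
    (A B : GL (Fin (n + 1)) F)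
    (hdiag : 3 ≤ Fintype.card F → ∃ (c : Fin (n + 1) → Fˣ) (z : Fˣ), (∀ u : Fˣ, u ∈ Subgroup.zpowers z) ∧
      ∏ i, c i = GeneralLinearGroup.det A ∧ (c a = c b * z ∨ c a = c b * z ^ 2) ∧ c a ≠ c b ∧
        c (τ.symm a) ≠ c (τ.symm b)) :
    Lift (j.comp SpecialLinearGroup.toGL).range (j A) (j B * f) := by
  obtain ⟨m, M, hM, -, hMd⟩ := exists_mono_det τ (fun _ => 1) 0 (GeneralLinearGroup.det B)
  have hnorm : ∀ C : GL (Fin (n + 1)) F, GeneralLinearGroup.det C = 1 →
      f⁻¹ * j C * f ∈ (j.comp SpecialLinearGroup.toGL).range := by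
    intro C hC
    have h3 := hf (GeneralLinearGroup.map (σ.symm : F →+* F) (itg C))
    have h4 : itg (GeneralLinearGroup.map (σ : F →+* F) (GeneralLinearGroup.map (σ.symm : F →+* F) (itg C))) = C := by
      have h5 : GeneralLinearGroup.map (σ : F →+* F) (GeneralLinearGroup.map (σ.symm : F →+* F) (itg C)) = itg C := by
        apply Units.ext
        ext a b
        rw [GeneralLinearGroup.map_apply, GeneralLinearGroup.map_apply]
        exact σ.apply_symm_apply _
      rw [h5, itg_itg]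
    rw [h4] at h3
    have h5 : f⁻¹ * j C * f = j (GeneralLinearGroup.map (σ.symm : F →+* F) (itg C)) := by
      rw [← h3]
      group
    rw [h5]
    apply mem_range
    rw [GeneralLinearGroup.map_det, det_itg, hC, inv_one]
    exact map_one _
  have hy : ∀ u : GL (Fin (n + 1)) F, GeneralLinearGroup.det u = 1 →
      (j B * f)⁻¹ * (j u * (j M * f)) ∈ (j.comp SpecialLinearGroup.toGL).range := by
    intro u hu
    have h3 : (j B * f)⁻¹ * (j u * (j M * f)) = f⁻¹ * j (B⁻¹ * u * M) * f := by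
      rw [map_mul, map_mul, map_inv]
      group
    rw [h3]
    apply hnorm
    rw [map_mul, map_mul, map_inv, hu, mul_one, hMd, inv_mul_cancel]
  rcases Nat.lt_or_ge (Fintype.card F) 3 with hF | hF
  · -- `|F| = 2`
    have hA : GeneralLinearGroup.det A = 1 := by
      apply Units.ext
      rcases two_elements hF (GeneralLinearGroup.det A : Fˣ) with h3 | h3
      · exact absurd h3 (Units.ne_zero _)
      · exact h3
    refine lift_of (x' := j (tv hab 1)) (y' := j 1 * (j M * f)) ?_ (hy 1 (map_one _)) ?_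
    · rw [← map_inv, ← map_mul]
      apply mem_range
      rw [map_mul, map_inv, hA, det_tv, inv_one, one_mul]
    · refine hgen M m hM _ ?_ ?_
      · intro s
        rcases two_elements hF s with rfl | rfl
        · rw [tv_zero, map_one]
          exact Subgroup.one_mem _
        · exact Subgroup.subset_closure (by simp)
      · rw [map_one, one_mul]
        exact Subgroup.subset_closure (by simp)
  · obtain ⟨c, z, hz, hcd, hc, hc1, hc2⟩ := hdiag hF
    refine lift_of (x' := j (dg c)) (y' := j (tv hab 1) * (j M * f)) ?_ (hy _ (det_tv _ _)) ?_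
    · rw [← map_inv, ← map_mul]
      apply mem_range
      rw [map_mul, map_inv, det_dg, hcd, inv_mul_cancel]
    · have hw : (j M * f) * j (dg c) * (j M * f)⁻¹ =
          j (dg fun i => ((fun i => Units.map ((σ : F →+* F) : F →* F) (c i))⁻¹ : Fin (n + 1) → Fˣ) (τ.symm i)) := by
        rw [conj_w hf, map_dg, itg_dg, conj_dg hM]
      have key := trick hab hj (Subgroup.closure ({j (dg c), j (tv hab 1) * (j M * f)} : Set Γ)) hz hw hc hc1 (by
          intro e
          apply hc2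
          have h5 : Units.map ((σ : F →+* F) : F →* F) (c (τ.symm a)) =
              Units.map ((σ : F →+* F) : F →* F) (c (τ.symm b)) := inv_injective e
          have h6 := congrArg Units.val h5
          exact Units.ext (σ.injective h6))
        (Subgroup.subset_closure (by simp)) (Subgroup.subset_closure (by simp))
      exact hgen M m hM _ key.1 key.2

/-- **case 2**: `x ∈ PGL`, `y` a graph automorphism -/
theorem lift_graph [Fintype F] {n : ℕ} (hn : 2 ≤ n) {j : GL (Fin (n + 1)) F →* Γ}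
    (hf : ∀ A, f * j A * f⁻¹ = j (itg (GeneralLinearGroup.map (σ : F →+* F) A)))
    (hj : ∀ (a b : Fin (n + 1)) (hab : a ≠ b) (s : F), j (tv hab s) = 1 → s = 0)
    (A B : GL (Fin (n + 1)) F) : Lift (j.comp SpecialLinearGroup.toGL).range (j A) (j B * f) := by
  rcases Nat.even_or_odd n with he | ho
  · have hn1 : 1 ≤ n := by omega
    refine lift_graph_of hf (ne_succ hn1 0) (hj _ _ _) (cyc n) ?_ A B ?_
    · intro M m hM M₀ hX hw
      exact range_le_odd hn1 he hf hM M₀ hX hw
    · intro hF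
      obtain ⟨c, z, hz, hcd, hc01, hcne, hcl⟩ := exists_diag hn1 hF (by omega) (GeneralLinearGroup.det A)
      refine ⟨c, z, hz, hcd, ?_, ?_, ?_⟩
      · rwa [zero_add]
      · rwa [zero_add]
      · rw [cyc_symm_apply]
        have h3 : (cyc n).symm 0 = Fin.last n := by
          rw [Equiv.symm_apply_eq]
          exact (Fin.last_add_one n).symm
        rwa [h3]
  · obtain ⟨k, rfl⟩ : ∃ k, n = k + 1 := ⟨n - 1, by omega⟩
    have he : Even k := by
      rcases Nat.even_or_odd k with h | h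
      · exact h
      · exact absurd ho (by rw [Nat.not_odd_iff_even]; exact h.add_one)
    have hk2 : 2 ≤ k := by
      obtain ⟨l, hl⟩ := he
      omega
    refine lift_graph_of hf (Fin.succ_ne_zero (0 : Fin (k + 1))) (hj _ _ _) (cyc' k) ?_ A B ?_
    · intro M m hM M₀ hX hw
      exact range_le_even he hf hM M₀ hX hw
    · intro hF
      obtain ⟨c, z, hz, hcd, hc01, hcne, hcl⟩ := exists_diag_even hk2 hF (GeneralLinearGroup.det A)
      refine ⟨c, z, hz, hcd, Or.inl hc01, hcne, ?_⟩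
      have h0 : (cyc' k).symm 0 = 0 := by
        rw [Equiv.symm_apply_eq, cyc'_zero]
      have h1 : (cyc' k).symm (Fin.succ 0) = Fin.last (k + 1) := by
        rw [Equiv.symm_apply_eq, ← Fin.succ_last, cyc'_succ, Fin.last_add_one]
      rw [h0, h1]
      exact hcl

/-- **case 3**: `x` a graph automorphism without field part, `y` semilinear -/
theorem lift_graph_left [Fintype F] {n : ℕ} (hn : 2 ≤ n) (hF : 3 ≤ Fintype.card F) {j : GL (Fin (n + 1)) F →* Γ}
    {g : Γ} (hg : ∀ A, g * j A * g⁻¹ = j (itg A)) (hg2 : g * g = 1)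
    (hf : ∀ A, f * j A * f⁻¹ = j (GeneralLinearGroup.map (σ : F →+* F) A))
    (hj : ∀ (a b : Fin (n + 1)) (hab : a ≠ b) (s : F), j (tv hab s) = 1 → s = 0)
    (A B : GL (Fin (n + 1)) F) : Lift (j.comp SpecialLinearGroup.toGL).range (j A * g) (j B * f) := by
  classical
  have hn1 : 1 ≤ n := by omega
  obtain ⟨z, hz⟩ := exists_gen (F := F)
  have ho := orderOf_gen hz
  have hz1 : z ≠ 1 := by
    intro e
    rw [← orderOf_eq_one_iff] at e
    omega
  obtain ⟨n, rfl⟩ : ∃ l, n = l + 2 := ⟨n - 2, by omega⟩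
  have h0l : (0 : Fin (n + 2 + 1)) ≠ Fin.last _ := by
    intro e
    have := congrArg Fin.val e
    simp at this
  have h1l : (1 : Fin (n + 2 + 1)) ≠ Fin.last _ := by
    intro e
    have := congrArg Fin.val e
    simp at this
  have h01 : (0 : Fin (n + 2 + 1)) ≠ 1 := Fin.zero_ne_one
  obtain ⟨y, Y, hY, hy, hYd⟩ := exists_mono_det (Equiv.swap (1 : Fin (n + 2 + 1)) (Fin.last _))
    (Pi.mulSingle (Fin.last (n + 2)) z⁻¹) 0 (GeneralLinearGroup.det A)
  have hyl : y (Fin.last (n + 2)) = z⁻¹ := by rw [hy _ h0l.symm, Pi.mulSingle_eq_same]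
  have hy1 : y 1 = 1 := by rw [hy _ h01.symm, Pi.mulSingle_eq_of_ne h1l]
  obtain ⟨m, M, hM, -, hMd⟩ := exists_mono_det (cyc (n + 2)) (fun _ => 1) 0 (GeneralLinearGroup.det B)
  -- the diagonal element
  set c : Fin (n + 2 + 1) → Fˣ := fun b => y (Equiv.swap (1 : Fin (n + 2 + 1)) (Fin.last _) b) * (y b)⁻¹ with hc
  have hYY : Y * itg Y = dg c := by
    have h1 := mono_mul hY (mono_itg hY)
    rw [Equiv.swap_mul_self] at h1
    rw [eq_dg_of_mono h1]
    rfl
  have hc0 : c 0 = 1 := by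
    rw [hc]
    show y (Equiv.swap (1 : Fin (n + 2 + 1)) (Fin.last _) 0) * (y 0)⁻¹ = 1
    rw [Equiv.swap_apply_of_ne_of_ne h01 h0l, mul_inv_cancel]
  have hc1 : c 1 = z⁻¹ := by
    rw [hc]
    show y (Equiv.swap (1 : Fin (n + 2 + 1)) (Fin.last _) 1) * (y 1)⁻¹ = z⁻¹
    rw [Equiv.swap_apply_left, hyl, hy1, inv_one, mul_one]
  have hcl : c (Fin.last (n + 2)) = z := by
    rw [hc]
    show y (Equiv.swap (1 : Fin (n + 2 + 1)) (Fin.last _) (Fin.last _)) * (y (Fin.last _))⁻¹ = z
    rw [Equiv.swap_apply_right, hyl, hy1, inv_inv, one_mul]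
  refine lift_of (x' := j Y * g) (y' := j (tv (ne_succ hn1 0) 1) * (j M * f)) ?_ ?_ ?_
  · have h3 : (j A * g)⁻¹ * (j Y * g) = j (itg (A⁻¹ * Y)) := by
      rw [← hg, map_mul, map_inv]
      have h4 : g⁻¹ = g := inv_eq_of_mul_eq_one_left hg2
      rw [h4, _root_.mul_inv_rev, h4]
      group
    rw [h3]
    apply mem_range
    rw [det_itg, map_mul, map_inv, hYd, inv_mul_cancel, inv_one]
  · have h3 : (j B * f)⁻¹ * (j (tv (ne_succ hn1 0) 1) * (j M * f)) = f⁻¹ * j (B⁻¹ * tv (ne_succ hn1 0) 1 * M) * f := by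
      rw [map_mul, map_mul, map_inv]
      group
    have h4 := hf (GeneralLinearGroup.map (σ.symm : F →+* F) (B⁻¹ * tv (ne_succ hn1 0) 1 * M))
    have h5 : GeneralLinearGroup.map (σ : F →+* F)
        (GeneralLinearGroup.map (σ.symm : F →+* F) (B⁻¹ * tv (ne_succ hn1 0) 1 * M)) =
        B⁻¹ * tv (ne_succ hn1 0) 1 * M := by
      apply Units.ext
      ext a b
      rw [GeneralLinearGroup.map_apply, GeneralLinearGroup.map_apply]
      exact σ.apply_symm_apply _
    rw [h5] at h4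
    have h6 : f⁻¹ * j (B⁻¹ * tv (ne_succ hn1 0) 1 * M) * f =
        j (GeneralLinearGroup.map (σ.symm : F →+* F) (B⁻¹ * tv (ne_succ hn1 0) 1 * M)) := by
      rw [← h4]
      group
    rw [h3, h6]
    apply mem_range
    have h7 : GeneralLinearGroup.det (B⁻¹ * tv (ne_succ hn1 0) 1 * M) = 1 := by
      rw [map_mul, map_mul, map_inv, det_tv, mul_one, hMd, inv_mul_cancel]
    rw [GeneralLinearGroup.map_det, h7]
    exact map_one _
  · set M₀ := Subgroup.closure ({j Y * g, j (tv (ne_succ hn1 0) 1) * (j M * f)} : Set Γ) with hM₀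
    have hx : j Y * g ∈ M₀ := Subgroup.subset_closure (by simp)
    have hy' : j (tv (ne_succ hn1 0) 1) * (j M * f) ∈ M₀ := Subgroup.subset_closure (by simp)
    have hh : j (dg c) ∈ M₀ := by
      have h1 := M₀.mul_mem hx hx
      have h2 : j Y * g * (j Y * g) = j (dg c) := by
        rw [← hYY, map_mul, ← hg]
        have h4 : g⁻¹ = g := inv_eq_of_mul_eq_one_left hg2
        rw [h4]
        simp only [mul_assoc]
      rwa [h2] at h1
    have hw : (j M * f) * j (dg c) * (j M * f)⁻¹ =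
        j (dg fun i => Units.map ((σ : F →+* F) : F →* F) (c ((cyc (n + 2)).symm i))) := by
      rw [Cfsg.Agent.H99.GenSL.conj_w hf, map_dg, conj_dg hM]
    have key := trick (ne_succ hn1 0) (hj _ _ _) M₀ hz hw
      (Or.inl (by rw [zero_add, hc0, hc1, inv_mul_cancel]))
      (by
        rw [zero_add, hc0, hc1]
        intro e
        exact hz1 (inv_eq_one.1 e.symm)) (by
        intro e
        have h3 : (cyc (n + 2)).symm 0 = Fin.last (n + 2) := by
          rw [Equiv.symm_apply_eq]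
          exact (Fin.last_add_one (n + 2)).symm
        replace e : Units.map ((σ : F →+* F) : F →* F) (c ((cyc (n + 2)).symm 0)) =
          Units.map ((σ : F →+* F) : F →* F) (c ((cyc (n + 2)).symm (0 + 1))) := e
        rw [h3, cyc_symm_apply, hcl, hc0] at e
        apply hz1
        have h6 := congrArg Units.val e
        exact Units.ext (σ.injective h6)) hh hy'
    exact range_le hn1 hf hM _ (by
      rintro _ ⟨s, rfl⟩
      exact key.1 s) key.2

end Lift

end Cfsg.Agent.H172.DG
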