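import Cfsg.Agent.H99.GenLiftSL

/-!
# TEAM GEN, S4180, row `PSL_n(q)` of `Cos2`: inverse transpose on `GL`, monomial matrices, the trick (helper172)
-/

set_option autoImplicit false

namespace Cfsg.Agent.H172.DG

open Matrix Cfsg.Agent.H891.Gen Cfsg.Agent.H99.GenSL
open scoped Fin.NatCast Fin.CommRing

section Itg

variable {ι F : Type*} [Fintype ι] [DecidableEq ι] [Field F]

/-- inverse transpose on `GL` -/
def itg (A : GL ι F) : GL ι F where
  val := ((A⁻¹ : GL ι F) : Matrix ι ι F)ᵀ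
  inv := (A : Matrix ι ι F)ᵀ
  val_inv := by rw [← transpose_mul, ← Units.val_mul, mul_inv_cancel, Units.val_one, transpose_one]
  inv_val := by rw [← transpose_mul, ← Units.val_mul, inv_mul_cancel, Units.val_one, transpose_one]

theorem itg_mul (A B : GL ι F) : itg (A * B) = itg A * itg B := by
  apply Units.ext
  show (((A * B)⁻¹ : GL ι F) : Matrix ι ι F)ᵀ =
    ((A⁻¹ : GL ι F) : Matrix ι ι F)ᵀ * ((B⁻¹ : GL ι F) : Matrix ι ι F)ᵀ
  rw [_root_.mul_inv_rev, Units.val_mul, transpose_mul]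

theorem itg_itg (A : GL ι F) : itg (itg A) = A := by
  apply Units.ext
  show ((A : Matrix ι ι F)ᵀ)ᵀ = A
  exact transpose_transpose _

theorem itg_tv {i j : ι} (hij : i ≠ j) (s : F) : itg (tv hij s) = tv hij.symm (-s) := by
  apply Units.ext
  show (((tv hij s)⁻¹ : GL ι F) : Matrix ι ι F)ᵀ = _
  rw [tv_inv, coe_tv, coe_tv, transpose_add, transpose_one, transpose_single]

theorem itg_dg (c : ι → Fˣ) : itg (dg c) = dg c⁻¹ := by
  apply Units.ext
  show (diagonal fun i => (((c i)⁻¹ : Fˣ) : F) : Matrix ι ι F)ᵀ = diagonal _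
  rw [diagonal_transpose]
  rfl

theorem det_itg (A : GL ι F) : GeneralLinearGroup.det (itg A) = (GeneralLinearGroup.det A)⁻¹ := by
  apply Units.ext
  show (((A⁻¹ : GL ι F) : Matrix ι ι F)ᵀ).det = _
  rw [det_transpose, ← map_inv]
  rfl

theorem itg_map (σ : F →+* F) (A : GL ι F) :
    itg (GeneralLinearGroup.map σ A) = GeneralLinearGroup.map σ (itg A) := by
  apply Units.ext
  ext i j
  show (((GeneralLinearGroup.map σ A)⁻¹ : GL ι F) : Matrix ι ι F) j i = _
  rw [← map_inv]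
  rfl

theorem mono_mul {M N : GL ι F} {τ ρ : Equiv.Perm ι} {c e : ι → Fˣ} (hM : Mono M τ c) (hN : Mono N ρ e) :
    Mono (M * N) (τ * ρ) (fun b => c (ρ b) * e b) := by
  intro a b
  rw [GeneralLinearGroup.coe_mul, Matrix.mul_apply, Finset.sum_eq_single (ρ b)]
  · rw [hM, hN, if_pos rfl, Equiv.Perm.mul_apply]
    by_cases h : a = τ (ρ b)
    · rw [if_pos h, if_pos h, Units.val_mul]
    · rw [if_neg h, if_neg h, zero_mul]
  · intro k _ hk
    rw [hN, if_neg hk, mul_zero]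
  · intro h
    exact absurd (Finset.mem_univ _) h

theorem mono_itg {M : GL ι F} {τ : Equiv.Perm ι} {c : ι → Fˣ} (hM : Mono M τ c) : Mono (itg M) τ c⁻¹ := by
  obtain ⟨X, hX⟩ := exists_mono (F := F) τ c⁻¹
  have h1 : (X : Matrix ι ι F) * (M : Matrix ι ι F)ᵀ = 1 := by
    ext a b
    rw [Matrix.mul_apply, Finset.sum_eq_single (τ.symm a)]
    · rw [transpose_apply, hX, hM, Equiv.apply_symm_apply, if_pos rfl, one_apply]
      by_cases h : a = b
      · rw [if_pos h, if_pos h.symm, Pi.inv_apply]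
        exact (c _).inv_mul
      · rw [if_neg h, if_neg (fun e => h e.symm), mul_zero]
    · intro k _ hk
      rw [hX, if_neg (fun e => hk (by rw [e, Equiv.symm_apply_apply])), zero_mul]
    · intro h
      exact absurd (Finset.mem_univ _) h
  have h2 : X = itg M := by
    apply Units.ext
    have h3 : (M : Matrix ι ι F)ᵀ * (itg M : Matrix ι ι F) = 1 := (itg M).inv_val
    calc (X : Matrix ι ι F) = X * ((M : Matrix ι ι F)ᵀ * (itg M : Matrix ι ι F)) := by rw [h3, mul_one]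
      _ = (itg M : Matrix ι ι F) := by rw [← mul_assoc, h1, one_mul]
  rw [← h2]
  exact hX

theorem eq_dg_of_mono {M : GL ι F} {c : ι → Fˣ} (hM : Mono M 1 c) : M = dg c := by
  apply Units.ext
  ext a b
  rw [hM]
  show _ = diagonal _ a b
  rw [diagonal_apply, Equiv.Perm.one_apply]
  by_cases h : a = b
  · rw [if_pos h, if_pos h, h]
  · rw [if_neg h, if_neg h]

/-- a monomial matrix with given permutation, given coefficients outside `i₀` and given determinant -/
theorem exists_mono_det (τ : Equiv.Perm ι) (c : ι → Fˣ) (i₀ : ι) (δ : Fˣ) :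
    ∃ (m : ι → Fˣ) (M : GL ι F), Mono M τ m ∧ (∀ i, i ≠ i₀ → m i = c i) ∧ GeneralLinearGroup.det M = δ := by
  obtain ⟨W, hW⟩ := exists_mono (F := F) τ c
  refine ⟨_, _, mono_mul_dg hW (Pi.mulSingle i₀ ((GeneralLinearGroup.det W)⁻¹ * δ)), ?_, ?_⟩
  · intro i hi
    rw [Pi.mul_apply, Pi.mulSingle_eq_of_ne hi, mul_one]
  · rw [map_mul, det_dg, Finset.prod_pi_mulSingle', if_pos (Finset.mem_univ _), mul_inv_cancel_left]

end Itg

/-! ### the trick -/

section Trick

variable {ι F : Type*} [Fintype ι] [DecidableEq ι] [Field F] {Γ : Type*} [Group Γ]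

/-- the root group `X_{ab}` in `Γ` -/
def R (j : GL ι F →* Γ) {a b : ι} (hab : a ≠ b) : Subgroup Γ where
  carrier := {g | ∃ s : F, g = j (tv hab s)}
  mul_mem' := by
    rintro _ _ ⟨s, rfl⟩ ⟨t, rfl⟩
    exact ⟨s + t, by rw [← map_mul, tv_mul]⟩
  one_mem' := ⟨0, by rw [tv_zero, map_one]⟩
  inv_mem' := by
    rintro _ ⟨s, rfl⟩
    exact ⟨-s, by rw [← map_inv, tv_inv]⟩

theorem R_irr [Finite F] (j : GL ι F →* Γ) {a b : ι} (hab : a ≠ b) {h : Γ} {α : F} {z : Fˣ}
    (hz : ∀ u : Fˣ, u ∈ Subgroup.zpowers z) (ha : α = z ∨ α = (z : F) ^ 2)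
    (hc : ∀ s : F, h * j (tv hab s) * h⁻¹ = j (tv hab (α * s)))
    (Y : Subgroup Γ) (hY : Y ≤ R j hab) (hhY : ∀ y ∈ Y, h * y * h⁻¹ ∈ Y) : Y = ⊥ ∨ Y = R j hab := by
  let A : AddSubgroup F :=
    { carrier := {s | j (tv hab s) ∈ Y}
      add_mem' := by
        intro s t hs ht
        have := Y.mul_mem hs ht
        rwa [← map_mul, tv_mul] at this
      zero_mem' := by
        change j (tv hab (0 : F)) ∈ Y
        rw [tv_zero, map_one]
        exact Y.one_mem
      neg_mem' := by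
        intro s hs
        have h1 := Y.inv_mem hs
        rwa [← map_inv, tv_inv] at h1 }
  have hA : ∀ s, s ∈ A ↔ j (tv hab s) ∈ Y := fun s => Iff.rfl
  have hcl : ∀ s ∈ A, α * s ∈ A := by
    intro s hs
    rw [hA] at hs ⊢
    rw [← hc]
    exact hhY _ hs
  rcases Cfsg.Agent.H136.FieldLem.eq_bot_or_top hz A (fun s hs => by
    rcases ha with ha | ha
    · have h1 := hcl _ (hcl s hs)
      rwa [ha, ← mul_assoc, ← pow_two] at h1
    · have h1 := hcl s hs
      rwa [ha] at h1) with h1 | h1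
  · left
    rw [eq_bot_iff]
    intro y hy
    obtain ⟨s, rfl⟩ := hY hy
    have h2 : s ∈ A := hy
    rw [h1, AddSubgroup.mem_bot] at h2
    rw [h2, tv_zero, map_one]
    exact Subgroup.mem_bot.2 rfl
  · right
    refine le_antisymm hY ?_
    rintro _ ⟨s, rfl⟩
    have h2 : s ∈ A := by rw [h1]; exact AddSubgroup.mem_top _
    exact h2

theorem inj_of {j : GL ι F →* Γ} {a b : ι} {hab : a ≠ b} (hj : ∀ s : F, j (tv hab s) = 1 → s = 0) {s t : F}
    (hst : j (tv hab s) = j (tv hab t)) : s = t := by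
  have h1 : j (tv hab (s - t)) = 1 := by
    rw [sub_eq_add_neg, ← tv_mul, ← tv_inv, map_mul, hst, map_inv, mul_inv_cancel]
  exact sub_eq_zero.1 (hj _ h1)

/-- The trick: `M₀ ∋ h = diag c`, `x_{ab}(1) w`, and `w h w⁻¹ = diag c'`. -/
theorem trick [Finite F] {j : GL ι F →* Γ} {a b : ι} (hab : a ≠ b) (hj : ∀ s : F, j (tv hab s) = 1 → s = 0)
    (M₀ : Subgroup Γ) {w : Γ} {c c' : ι → Fˣ} {z : Fˣ} (hz : ∀ u : Fˣ, u ∈ Subgroup.zpowers z)
    (hw : w * j (dg c) * w⁻¹ = j (dg c')) (hc : c a = c b * z ∨ c a = c b * z ^ 2) (hc1 : c a ≠ c b)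
    (hc' : c' a ≠ c' b) (h1 : j (dg c) ∈ M₀) (h2 : j (tv hab 1) * w ∈ M₀) :
    (∀ s, j (tv hab s) ∈ M₀) ∧ w ∈ M₀ := by
  have hconj : ∀ s : F, j (dg c) * j (tv hab s) * (j (dg c))⁻¹ =
      j (tv hab ((c a : F) * ((c b)⁻¹ : Fˣ) * s)) := by
    intro s
    rw [← map_mul, ← map_inv, ← map_mul, conj_dg_tv]
    congr 2
    ring
  have hconj' : ∀ s : F, j (dg c') * j (tv hab s) * (j (dg c'))⁻¹ =
      j (tv hab ((c' a : F) * s * ((c' b)⁻¹ : Fˣ))) := by
    intro s
    rw [← map_mul, ← map_inv, ← map_mul, conj_dg_tv]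
  have ha : (c a : F) * ((c b)⁻¹ : Fˣ) = z ∨ (c a : F) * ((c b)⁻¹ : Fˣ) = (z : F) ^ 2 := by
    rcases hc with h3 | h3
    · left
      rw [h3, ← Units.val_mul, mul_comm (c b), mul_inv_cancel_right]
    · right
      rw [h3, ← Units.val_mul, mul_comm (c b), mul_inv_cancel_right, Units.val_pow_eq_pow_val]
  have ha1 : (c a : F) * ((c b)⁻¹ : Fˣ) ≠ 1 := by
    rw [← Units.val_mul]
    intro e
    apply hc1
    have h3 : c a * (c b)⁻¹ = 1 := Units.ext e
    rw [mul_inv_eq_one] at h3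
    exact h3
  have key := Cfsg.Agent.H136.TwoGen.torus_trick M₀ (R j hab) (h := j (dg c)) (w := w) (u := j (tv hab 1)) h1 h2
    ⟨1, rfl⟩
    (by
      rintro _ ⟨s, rfl⟩
      rw [hw]
      exact ⟨_, hconj' s⟩)
    (by
      rintro _ ⟨s, rfl⟩
      rw [hw]
      refine ⟨((c' a)⁻¹ : Fˣ) * s * (c' b), ?_⟩
      have h3 := hconj' (((c' a)⁻¹ : Fˣ) * s * (c' b))
      have h4 : (c' a : F) * (((c' a)⁻¹ : Fˣ) * s * (c' b)) * ((c' b)⁻¹ : Fˣ) = s := by
        rw [← mul_assoc, ← mul_assoc, Units.mul_inv, one_mul, Units.mul_inv_cancel_right]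
      rw [h4] at h3
      rw [← h3]
      group)
    (fun Y hY hhY => R_irr j hab hz ha hconj Y hY hhY)
    ⟨j (tv hab 1), ⟨1, rfl⟩, by
      intro e
      have h3 := hconj 1
      rw [e, mul_inv_cancel_right] at h3
      have h4 := inj_of hj h3
      rw [mul_one] at h4
      exact ha1 h4.symm⟩
    (by
      rintro _ ⟨s, rfl⟩
      exact ⟨_, hconj s⟩)
    (by
      rw [hw, ← map_mul, ← map_mul, dg_comm])
    (by
      rw [hw]
      intro e
      have h3 := hconj' 1
      rw [e, mul_inv_cancel_right] at h3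
      have h4 := inj_of hj h3
      rw [mul_one, ← Units.val_mul] at h4
      apply hc'
      rw [← mul_inv_eq_one]
      exact (Units.ext h4).symm)
  exact ⟨fun s => key.1 ⟨s, rfl⟩, key.2⟩

end Trick

end Cfsg.Agent.H172.DG
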